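import Mathlib
import Groth.Prelude.Def_EGA41

/-! Reduction of formal smoothness to square zero ideals killed by the ideal of definition. -/

set_option autoImplicit false
universe u

namespace Groth.Agent.FSAdicStepLib

variable {A B : Type u} [CommRing A] [CommRing B] [Algebra A B] (𝔞 : Ideal A) (𝔟 : Ideal B)

/-- the one-step lifting property. -/
def Step : Prop :=
  ∀ (C : Type u) [CommRing C] [Algebra A C] (J : Ideal C), J ^ 2 = ⊥ → 𝔞.map (algebraMap A C) * J = ⊥ →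
    (∃ k : ℕ, (𝔞 ^ k).map (algebraMap A C) = ⊥) →
    ∀ u : B →ₐ[A] C ⧸ J, (∃ k : ℕ, ∀ x ∈ 𝔟 ^ k, u x = 0) →
      ∃ v : B →ₐ[A] C, (Ideal.Quotient.mkₐ A J).comp v = u

theorem lift_kills {C : Type u} [CommRing C] [Algebra A C] (J : Ideal C) (n : ℕ) (hJ : J ^ n = ⊥)
    (v : B →ₐ[A] C) (k : ℕ) (hk : ∀ x ∈ 𝔟 ^ k, Ideal.Quotient.mk J (v x) = 0) :
    ∀ x ∈ 𝔟 ^ (k * n), v x = 0 := fun x hx => by
  have h1 : (𝔟 ^ k).map v ≤ J := Ideal.map_le_iff_le_comap.2 fun y hy => by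
    rw [Ideal.mem_comap]
    exact Ideal.Quotient.eq_zero_iff_mem.1 (hk y hy)
  have h2 := Ideal.pow_right_mono h1 n
  rw [← Ideal.map_pow, ← pow_mul, hJ] at h2
  exact h2 (Ideal.mem_map_of_mem v hx)

variable {𝔞 𝔟}

theorem factor_comp {C : Type u} [CommRing C] {I J K : Ideal C} (h₁ : I ≤ J) (h₂ : J ≤ K) (x : C ⧸ I) :
    Ideal.Quotient.factor h₂ (Ideal.Quotient.factor h₁ x) = Ideal.Quotient.factor (h₁.trans h₂) x := by
  obtain ⟨c, rfl⟩ := Ideal.Quotient.mk_surjective x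
  rw [Ideal.Quotient.factor_mk, Ideal.Quotient.factor_mk, Ideal.Quotient.factor_mk]

theorem factor_equiv {C : Type u} [CommRing C] [Algebra A C] {I J K : Ideal C} (h : I = J) (hI : I ≤ K) (hJ : J ≤ K)
    (x : C ⧸ I) : Ideal.Quotient.factor hJ (Ideal.quotientEquivAlgOfEq A h x) = Ideal.Quotient.factor hI x := by
  subst h
  obtain ⟨c, rfl⟩ := Ideal.Quotient.mk_surjective x
  rfl

theorem mk_quotientBot {C : Type u} [CommRing C] [Algebra A C] {I : Ideal C} (h : I = ⊥) (K : Ideal C) (hK : I ≤ K)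
    (x : C ⧸ I) : Ideal.Quotient.mk K ((Ideal.quotientEquivAlgOfEq A h).trans (AlgEquiv.quotientBot A C) x) =
      Ideal.Quotient.factor hK x := by
  subst h
  obtain ⟨c, rfl⟩ := Ideal.Quotient.mk_surjective x
  rfl

theorem lift_to (h : Step 𝔞 𝔟) {C : Type u} [CommRing C] [Algebra A C]
    (hC : ∃ k : ℕ, (𝔞 ^ k).map (algebraMap A C) = ⊥) {K L : Ideal C} (hKL : K ≤ L) (hL : L * L ≤ K)
    (hIL : 𝔞.map (algebraMap A C) * L ≤ K) (u : B →ₐ[A] C ⧸ L) (hu : ∃ k : ℕ, ∀ x ∈ 𝔟 ^ k, u x = 0) :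
    ∃ v : B →ₐ[A] C ⧸ K, (∃ k : ℕ, ∀ x ∈ 𝔟 ^ k, v x = 0) ∧ ∀ x, Ideal.Quotient.factor hKL (v x) = u x := by
  let Lb : Ideal (C ⧸ K) := L.map (Ideal.Quotient.mkₐ A K)
  have h1 : Lb ^ 2 = ⊥ := by
    rw [sq, ← Ideal.map_mul (Ideal.Quotient.mkₐ A K), eq_bot_iff, Ideal.map_le_iff_le_comap]
    intro c hc
    exact Ideal.mem_bot.2 (Ideal.Quotient.eq_zero_iff_mem.2 (hL hc))
  have h2 : 𝔞.map (algebraMap A (C ⧸ K)) * Lb = ⊥ := by
    rw [← (Ideal.Quotient.mkₐ A K).comp_algebraMap, ← Ideal.map_map]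
    show (Ideal.map (algebraMap A C) 𝔞).map (Ideal.Quotient.mkₐ A K) * L.map (Ideal.Quotient.mkₐ A K) = ⊥
    rw [← Ideal.map_mul (Ideal.Quotient.mkₐ A K), eq_bot_iff, Ideal.map_le_iff_le_comap]
    intro c hc
    exact Ideal.mem_bot.2 (Ideal.Quotient.eq_zero_iff_mem.2 (hIL hc))
  have h3 : ∃ k : ℕ, (𝔞 ^ k).map (algebraMap A (C ⧸ K)) = ⊥ := by
    obtain ⟨k, hk⟩ := hC
    exact ⟨k, by rw [IsScalarTower.algebraMap_eq A C (C ⧸ K), ← Ideal.map_map, hk, Ideal.map_bot]⟩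
  let e := DoubleQuot.quotQuotEquivQuotOfLEₐ A hKL
  obtain ⟨k, hk⟩ := hu
  obtain ⟨v, hv⟩ := h (C ⧸ K) Lb h1 h2 h3 (e.symm.toAlgHom.comp u)
    ⟨k, fun x hx => by show e.symm (u x) = 0; rw [hk x hx, map_zero]⟩
  refine ⟨v, ⟨k * 2, lift_kills 𝔟 Lb 2 h1 v k fun x hx => ?_⟩, fun x => ?_⟩
  · exact (AlgHom.congr_fun hv x).trans (by show e.symm (u x) = 0; rw [hk x hx, map_zero])
  · have h4 : e ((Ideal.Quotient.mkₐ A Lb).comp v x) = e ((e.symm.toAlgHom.comp u) x) :=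
      congrArg e (AlgHom.congr_fun hv x)
    rw [show e ((e.symm.toAlgHom.comp u) x) = u x from e.apply_symm_apply _] at h4
    rw [← h4]
    obtain ⟨c, hc⟩ := Ideal.Quotient.mk_surjective (v x)
    rw [AlgHom.comp_apply, ← hc]
    rfl

theorem isFormallySmoothAdic_of_step (h : Step 𝔞 𝔟) : EGA41.IsFormallySmoothAdic A 𝔞 B 𝔟 := by
  intro C _ _ J hJ hC u hu
  obtain ⟨n, hn⟩ := hJ
  obtain ⟨l, hl⟩ := hC
  set I := 𝔞.map (algebraMap A C) with hI
  have hIl : I ^ l = ⊥ := by rw [hI, ← Ideal.map_pow, hl]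
  -- lifts modulo every power of `J`
  have hpow : ∀ i : ℕ, ∃ v : B →ₐ[A] C ⧸ J ^ (i + 1), (∃ k : ℕ, ∀ x ∈ 𝔟 ^ k, v x = 0) ∧
      ∀ x, Ideal.Quotient.factor (Ideal.pow_le_self i.succ_ne_zero) (v x) = u x := by
    intro i
    induction i with
    | zero =>
      let e := Ideal.quotientEquivAlgOfEq A (pow_one J).symm
      refine ⟨e.toAlgHom.comp u, ?_, fun x => ?_⟩
      · obtain ⟨k, hk⟩ := hu
        exact ⟨k, fun x hx => by show e (u x) = 0; rw [hk x hx, map_zero]⟩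
      · show Ideal.Quotient.factor _ (e (u x)) = u x
        rw [factor_equiv (pow_one J).symm le_rfl]
        obtain ⟨c, hc⟩ := Ideal.Quotient.mk_surjective (u x)
        rw [← hc, Ideal.Quotient.factor_mk]
    | succ i ih =>
      obtain ⟨v, hv, hvu⟩ := ih
      have hch : ∀ j : ℕ, ∃ w : B →ₐ[A] C ⧸ (J ^ (i + 2) ⊔ J ^ (i + 1) * I ^ j),
          (∃ k : ℕ, ∀ x ∈ 𝔟 ^ k, w x = 0) ∧
          ∀ x, Ideal.Quotient.factor (sup_le (Ideal.pow_le_self (by omega))
            (Ideal.mul_le_left.trans (Ideal.pow_le_self (by omega)))) (w x) = u x := by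
        intro j
        induction j with
        | zero =>
          have heq : J ^ (i + 1) = J ^ (i + 2) ⊔ J ^ (i + 1) * I ^ 0 := by
            rw [pow_zero, mul_one, sup_eq_right.2 (Ideal.pow_le_pow_right (by omega))]
          let e := Ideal.quotientEquivAlgOfEq A heq
          refine ⟨e.toAlgHom.comp v, ?_, fun x => ?_⟩
          · obtain ⟨k, hk⟩ := hv
            exact ⟨k, fun x hx => by show e (v x) = 0; rw [hk x hx, map_zero]⟩
          · rw [← hvu x]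
            show Ideal.Quotient.factor _ (e (v x)) = _
            rw [factor_equiv heq]
        | succ j ih =>
          obtain ⟨w, hw, hwu⟩ := ih
          have hKL : J ^ (i + 2) ⊔ J ^ (i + 1) * I ^ (j + 1) ≤ J ^ (i + 2) ⊔ J ^ (i + 1) * I ^ j :=
            sup_le_sup_left (Ideal.mul_mono_right (Ideal.pow_le_pow_right j.le_succ)) _
          obtain ⟨w', hw', hw'w⟩ := lift_to h ⟨l, hl⟩ hKL (by
              refine le_trans ?_ (le_sup_left (b := J ^ (i + 1) * I ^ (j + 1)))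
              refine (Ideal.mul_mono (sup_le (Ideal.pow_le_pow_right (by omega : i + 1 ≤ i + 2)) Ideal.mul_le_left)
                (sup_le (Ideal.pow_le_pow_right (by omega : i + 1 ≤ i + 2)) Ideal.mul_le_left)).trans ?_
              rw [← pow_add]
              exact Ideal.pow_le_pow_right (by omega)) (by
              rw [Ideal.mul_sup]
              refine sup_le (Ideal.mul_le_right.trans le_sup_left) (le_trans (le_of_eq ?_) le_sup_right)
              rw [pow_succ]; ring) w hw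
          exact ⟨w', hw', fun x => by
            rw [← hwu x, ← hw'w x, factor_comp]⟩
      obtain ⟨w, ⟨k, hk⟩, hwu⟩ := hch l
      have heq : J ^ (i + 2) ⊔ J ^ (i + 1) * I ^ l = J ^ (i + 1 + 1) := by
        simp only [hIl, Ideal.mul_bot, sup_bot_eq]
      let e := Ideal.quotientEquivAlgOfEq A heq
      refine ⟨e.toAlgHom.comp w, ⟨k, fun x hx => by show e (w x) = 0; rw [hk x hx, map_zero]⟩, fun x => ?_⟩
      rw [← hwu x]
      show Ideal.Quotient.factor _ (e (w x)) = _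
      rw [factor_equiv heq]
  obtain ⟨v, -, hv⟩ := hpow n
  have hb : J ^ (n + 1) = ⊥ := by
    rw [pow_succ, hn, Ideal.zero_eq_bot, Ideal.bot_mul]
  let e := (Ideal.quotientEquivAlgOfEq A hb).trans (AlgEquiv.quotientBot A C)
  refine ⟨e.toAlgHom.comp v, AlgHom.ext fun x => ?_⟩
  rw [← hv x]
  show Ideal.Quotient.mk J (e (v x)) = _
  exact mk_quotientBot hb J _ (v x)

end Groth.Agent.FSAdicStepLib
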